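import Groth.Agent.HopfLib.ComodIsotypic
import Groth.Agent.HopfLib.Integral
import Mathlib.FieldTheory.IsAlgClosed.Basic
import Mathlib.RingTheory.SimpleModule.Basic
import Mathlib.LinearAlgebra.Eigenspace.Triangularizable

/-!
# Characters and symmetric elements of a coalgebra with semisimple comodules
-/

set_option autoImplicit false
set_option linter.unusedSectionVars false
set_option maxHeartbeats 400000

open TensorProduct HopfRep WithConv
open Groth.Agent.HopfLib

universe u v w w'

namespace Groth.Agent.CohDer1.ClassFun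

variable {k : Type u} [Field k] {A : Type v} [AddCommGroup A] [Module k A] [Coalgebra k A]

/-- Elements on which the product of forms is commutative. -/
def IsSymm (f : A) : Prop := ∀ u v : A →ₗ[k] k, formMul u v f = formMul v u f

variable {V : Type w} [AddCommGroup V] [Module k V] [Comod k A V]

/-- The character, computed in a basis. -/
noncomputable def chr {ι : Type*} [Fintype ι] (b : Module.Basis ι k V) : A := ∑ i, cf (A := A) (b.coord i) (b i)

theorem form_cf (u : A →ₗ[k] k) (φ : V →ₗ[k] k) (x : V) : u (cf (A := A) φ x) = φ (hit u x) := by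
  simp only [cf_apply, hit_apply]
  generalize Comod.coact (k := k) (A := A) x = t
  induction t using TensorProduct.induction_on with
  | zero => simp
  | add p q hp hq => simp only [map_add, hp, hq]
  | tmul p q => simp [mul_comm]

theorem form_chr {ι : Type*} [Fintype ι] (b : Module.Basis ι k V) (u : A →ₗ[k] k) :
    u (chr (A := A) b) = ∑ i, b.coord i (hit u (b i)) := by
  simp [chr, form_cf]

theorem isSymm_chr {ι : Type*} [Fintype ι] (b : Module.Basis ι k V) : IsSymm (k := k) (chr (A := A) b) := by
  intro u v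
  have h : ∀ u v : A →ₗ[k] k, formMul u v (chr (A := A) b) =
      ∑ i, ∑ j, b.coord j (hit v (b i)) * b.coord i (hit u (b j)) := by
    intro u v
    rw [form_chr]
    refine Finset.sum_congr rfl fun i _ => ?_
    rw [← hit_hit]
    conv_lhs => rw [← b.sum_repr (hit v (b i))]
    simp only [map_sum, map_smul, smul_eq_mul, Module.Basis.coord_apply, Finsupp.smul_apply,
      Finsupp.coe_finsetSum, Finset.sum_apply]
  rw [h, h, Finset.sum_comm]
  exact Finset.sum_congr rfl fun i _ => Finset.sum_congr rfl fun j _ => mul_comm _ _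

theorem chr_mem_coeffSpace {ι : Type*} [Fintype ι] (b : Module.Basis ι k V) :
    chr (A := A) b ∈ coeffSpace k A V :=
  Submodule.sum_mem _ fun _ _ => cf_mem_coeffSpace _ _

theorem counit_chr {ι : Type*} [Fintype ι] (b : Module.Basis ι k V) :
    Coalgebra.counit (R := k) (chr (A := A) b) = (Fintype.card ι : k) := by
  simp [chr, counit_cf]

theorem formMul_symm_of_mem_span (s : Set A) (hs : ∀ x ∈ s, IsSymm (k := k) x) (f : A)
    (hf : f ∈ Submodule.span k s) : IsSymm (k := k) f := by
  intro u v
  induction hf using Submodule.span_induction with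
  | mem x hx => exact hs x hx u v
  | zero => simp
  | add x y _ _ hx hy => simp only [map_add, hx, hy]
  | smul c x _ hx => simp only [map_smul, hx]

theorem form_eq_zero_of_hit_eq_zero (w : A →ₗ[k] k) (hw : ∀ x : V, hit w x = 0) {f : A}
    (hf : f ∈ coeffSpace k A V) : w f = 0 := by
  refine Submodule.iSup_induction _ (motive := fun f => w f = 0) hf ?_ (map_zero w) fun x y hx hy => by
    rw [map_add, hx, hy, add_zero]
  rintro φ _ ⟨x, rfl⟩
  rw [form_cf, hw, map_zero]

/-- Burnside: forms realise every endomorphism of a simple comodule. -/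
theorem exists_hit_eq [IsAlgClosed k] (hV : IsSimpleComod k A V) (P : V →ₗ[k] V) :
    ∃ u : A →ₗ[k] k, ∀ x, hit u x = P x := by
  have := isSimpleComod_iff.1 hV
  have := hV.1
  have hfin := finite_of_isSimpleComod hV
  have hsc : ∀ φ : Module.End (FormAlg k A) V, ∃ c : k, ∀ x : V, φ x = c • x := by
    intro φ
    obtain ⟨c, hc⟩ := Module.End.exists_eigenvalue (φ.restrictScalars k : Module.End k V)
    obtain ⟨x₀, hx₀⟩ := hc.exists_hasEigenvector
    let ψ : Module.End (FormAlg k A) V :=
      { toFun := fun x => φ x - c • x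
        map_add' := fun x y => by rw [map_add, smul_add]; abel
        map_smul' := fun r x => by
          rw [map_smul, RingHom.id_apply, smul_sub, smul_comm c r x] }
    refine ⟨c, fun x => ?_⟩
    rcases LinearMap.bijective_or_eq_zero ψ with h | h
    · exact absurd (h.1 (show ψ x₀ = ψ 0 by
        rw [map_zero]; exact sub_eq_zero.2 hx₀.apply_eq_smul)) hx₀.2
    · exact sub_eq_zero.1 (LinearMap.congr_fun h x)
  let F : Module.End (Module.End (FormAlg k A) V) V :=
    { toFun := fun x => P x
      map_add' := map_add P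
      map_smul' := fun φ x => by
        obtain ⟨c, hc⟩ := hsc φ
        rw [RingHom.id_apply, Module.End.smul_def, Module.End.smul_def, hc, hc, map_smul] }
  let b := Module.finBasis k V
  classical
  obtain ⟨r, hr⟩ := jacobson_density F (Finset.univ.image b)
  refine ⟨r.ofConv, fun x => ?_⟩
  have e : hit r.ofConv = P := b.ext fun i => (hr (b i) (Finset.mem_image_of_mem _ (Finset.mem_univ i))).symm
  rw [e]

/-- A symmetric element of the coefficient space of a simple comodule is a multiple of the character. -/
theorem eq_smul_chr [IsAlgClosed k] (hV : IsSimpleComod k A V) {ι : Type*} [Fintype ι] (b : Module.Basis ι k V)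
    {f : A} (hf : f ∈ coeffSpace k A V) (hs : IsSymm (k := k) f) : ∃ c : k, f = c • chr (A := A) b := by
  classical
  have := hV.1
  choose U hU using fun P : V →ₗ[k] V => exists_hit_eq (k := k) (A := A) hV P
  let L : (V →ₗ[k] V) → k := fun P => U P f
  have hL : ∀ (P : V →ₗ[k] V) (u : A →ₗ[k] k), (∀ x, hit u x = P x) → u f = L P := fun P u hu => by
    have h := form_eq_zero_of_hit_eq_zero (k := k) (A := A) (V := V) (u + (-1 : k) • U P) (fun x => by
      rw [hit_add, hit_smul, hU, hu, neg_smul, one_smul, add_neg_cancel]) hf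
    simp only [LinearMap.add_apply, LinearMap.smul_apply, neg_smul, one_smul, ← sub_eq_add_neg, sub_eq_zero] at h
    exact h
  have hLs : ∀ (c : k) P, L (c • P) = c * L P := fun c P => by
    rw [← hL (c • P) (c • U P) fun x => by rw [hit_smul, hU]; rfl]
    rfl
  have hLsum : ∀ (g : ι → (V →ₗ[k] V)), L (∑ i, g i) = ∑ i, L (g i) := fun g => by
    rw [← hL (∑ i, g i) (∑ i, U (g i)) fun x => ?_, LinearMap.sum_apply]
    rw [show hit (∑ i, U (g i)) x = orbitMap x (∑ i, U (g i)) from rfl, map_sum, LinearMap.sum_apply]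
    exact Finset.sum_congr rfl fun i _ => hU _ x
  have hLc : ∀ P Q : V →ₗ[k] V, L (P ∘ₗ Q) = L (Q ∘ₗ P) := fun P Q => by
    rw [← hL (P ∘ₗ Q) (formMul (U P) (U Q)) (fun x => by rw [← hit_hit, hU, hU]; rfl),
      ← hL (Q ∘ₗ P) (formMul (U Q) (U P)) (fun x => by rw [← hit_hit, hU, hU]; rfl)]
    exact hs _ _
  obtain ⟨j⟩ : Nonempty ι := b.index_nonempty
  let E : (V →ₗ[k] k) → V → (V →ₗ[k] V) := fun φ x => φ.smulRight x
  have hE : ∀ (ψ : V →ₗ[k] k) (x : V), L (E ψ x) = ψ x * L (E (b.coord j) (b j)) := fun ψ x => by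
    have h := hLc (E ψ (b j)) (E (b.coord j) x)
    have e1 : E ψ (b j) ∘ₗ E (b.coord j) x = ψ x • E (b.coord j) (b j) :=
      LinearMap.ext fun z => by simp [E, smul_smul, mul_comm]
    have e2 : E (b.coord j) x ∘ₗ E ψ (b j) = E ψ x := LinearMap.ext fun z => by simp [E]
    rw [e1, e2, hLs] at h
    exact h.symm
  refine ⟨L (E (b.coord j) (b j)), (Module.forall_dual_apply_eq_zero_iff k _).1 (fun u => ?_) |> sub_eq_zero.1⟩
  have hdec : ∀ x, hit u x = (∑ i, E (b.coord i) (hit u (b i))) x := fun x => by
    conv_lhs => rw [← b.sum_repr x]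
    simp only [E, LinearMap.sum_apply, LinearMap.smulRight_apply, Module.Basis.coord_apply, map_sum, map_smul]
  rw [map_sub, map_smul, form_chr, hL _ u hdec, hLsum, smul_eq_mul, Finset.mul_sum, sub_eq_zero]
  refine Finset.sum_congr rfl fun i _ => ?_
  rw [hE, mul_comm]

variable (k A) in
/-- The commutator slice against a form. -/
noncomputable def comm (v : A →ₗ[k] k) : A →ₗ[k] A := hitR v - hitL v

theorem form_hitR (u v : A →ₗ[k] k) (f : A) : u (hitR v f) = formMul u v f := by
  simp only [hitR, formMul, LinearMap.comp_apply]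
  generalize Coalgebra.comul (R := k) f = t
  induction t using TensorProduct.induction_on with
  | zero => simp
  | add p q hp hq => simp only [map_add, hp, hq]
  | tmul p q => simp [mul_comm]

theorem form_hitL (u v : A →ₗ[k] k) (f : A) : u (hitL v f) = formMul v u f := by
  simp only [hitL, formMul, LinearMap.comp_apply]
  generalize Coalgebra.comul (R := k) f = t
  induction t using TensorProduct.induction_on with
  | zero => simp
  | add p q hp hq => simp only [map_add, hp, hq]
  | tmul p q => simp

theorem isSymm_iff_comm (f : A) : IsSymm (k := k) f ↔ ∀ v, comm k A v f = 0 := by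
  constructor
  · intro h v
    refine (Module.forall_dual_apply_eq_zero_iff k _).1 fun u => ?_
    rw [comm, LinearMap.sub_apply, map_sub, form_hitR, form_hitL, h, sub_self]
  · intro h u v
    have := congrArg u (h v)
    rwa [comm, LinearMap.sub_apply, map_sub, form_hitR, form_hitL, map_zero, sub_eq_zero] at this

theorem sum_eq_zero_imp {ι M : Type*} [AddCommGroup M] [Module k M] {p : ι → Submodule k M} (hp : iSupIndep p)
    (s : Finset ι) (x : ι → M) (hx : ∀ i ∈ s, x i ∈ p i) (h : ∑ i ∈ s, x i = 0) : ∀ i ∈ s, x i = 0 := by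
  classical
  intro i hi
  rw [← Finset.add_sum_erase s x hi, add_eq_zero_iff_eq_neg] at h
  refine Submodule.disjoint_def.1 (hp i) _ (hx i hi) ?_
  rw [h]
  refine Submodule.neg_mem _ (Submodule.sum_mem _ fun j hj => ?_)
  exact Submodule.mem_iSup_of_mem j (Submodule.mem_iSup_of_mem (Finset.mem_erase.1 hj).1
    (hx j (Finset.mem_erase.1 hj).2))

/-- Symmetric elements are combinations of characters of simple subcomodules. -/
theorem mem_span_of_isSymm [IsAlgClosed k] (hA : IsSemisimpleComod k A A) {f : A} (hf : IsSymm (k := k) f)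
    (s : Set A) (hs : ∀ (E : Submodule k A) (hE : IsSimpleSub k A E),
      letI := ComodSub.Comod.restr (Comod.regular k A) E hE.1
      ∃ (ι : Type v) (_ : Fintype ι) (b : Module.Basis ι k E), chr (A := A) b ∈ s) :
    f ∈ Submodule.span k s := by
  classical
  have htop : (⨆ D : {D : Submodule k A // IsSimpleSubcoalg k D}, D.1) = ⊤ := by
    rw [eq_top_iff, ← isSemisimpleComod_iff_iSup_simple.1 hA]
    refine iSup_le fun S => ?_
    let cS := ComodSub.Comod.restr (Comod.regular k A) S.1 S.2.1
    refine le_iSup_of_le ⟨coeffSpace k A S.1, isSimpleSubcoalg_coeffSpace (isSimpleComod_restr S.2)⟩ fun x hx => ?_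
    have hι := ComodSub.isComodHom_subtype (Comod.regular k A) S.1 S.2.1
    have e : cf (A := A) ((Coalgebra.counit (R := k)) ∘ₗ S.1.subtype) (⟨x, hx⟩ : S.1) = x := by
      refine (?_ : _ = hitL (Coalgebra.counit (R := k)) x).trans (hitL_counit x)
      rw [cf_apply]
      have h1 : Coalgebra.comul (R := k) x =
          S.1.subtype.rTensor A (Comod.coact (k := k) (A := A) (⟨x, hx⟩ : S.1)) := IsComodHom.coact_apply hι (⟨x, hx⟩ : S.1)
      simp only [hitL, LinearMap.comp_apply, h1]
      generalize Comod.coact (k := k) (A := A) (⟨x, hx⟩ : S.1) = t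
      induction t using TensorProduct.induction_on with
      | zero => simp
      | add p q hp hq => simp only [map_add, hp, hq]
      | tmul p q => simp
    rw [← e]
    exact cf_mem_coeffSpace _ _
  have hmem : f ∈ ⨆ D : {D : Submodule k A // IsSimpleSubcoalg k D}, D.1 := htop ▸ Submodule.mem_top
  obtain ⟨t, ht⟩ := Submodule.exists_finset_of_mem_iSup _ hmem
  obtain ⟨μ, hμ⟩ := (Submodule.mem_iSup_finset_iff_exists_sum _ _).1 ht
  have hsy : ∀ D ∈ t, IsSymm (k := k) (μ D : A) := fun D hD => (isSymm_iff_comm _).2 fun v => by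
    refine sum_eq_zero_imp (iSupIndep_simpleSubcoalg (k := k) (A := A)) t (fun D => comm k A v (μ D : A))
      (fun D' _ => ?_) ?_ D hD
    · have h2 := mem_range_map_subtype_iff.1 (D'.2.2.1 _ (μ D').2)
      exact Submodule.sub_mem _ (h2.1 v) (h2.2 v)
    · rw [← map_sum, hμ]
      exact (isSymm_iff_comm f).1 hf v
  rw [← hμ]
  refine Submodule.sum_mem _ fun D hD => ?_
  obtain ⟨E, hE, -, hco⟩ := IsSimpleSubcoalg.exists_coeffSpace_eq D.2
  let cE := ComodSub.Comod.restr (Comod.regular k A) E hE.1
  obtain ⟨ι, _, b, hb⟩ := hs E hE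
  have hm : (μ D : A) ∈ coeffSpace k A E := by rw [hco]; exact (μ D).2
  obtain ⟨c, hc⟩ := eq_smul_chr (isSimpleComod_restr hE) b hm (hsy D hD)
  rw [hc]
  exact Submodule.smul_mem _ c (Submodule.subset_span hb)

/-- Characters of pairwise non-isomorphic simple comodules are independent. -/
theorem linearIndependent_chr [CharZero k] {n : Type*} (S : n → Type w) [∀ i, AddCommGroup (S i)]
    [∀ i, Module k (S i)] [∀ i, Comod k A (S i)] (hS : ∀ i, IsSimpleComod k A (S i))
    (hne : ∀ i j, i ≠ j → ∀ e : S i ≃ₗ[k] S j, ¬ Hoch.IsComodHom A e.toLinearMap)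
    (ι : n → Type w') [∀ i, Fintype (ι i)] (b : ∀ i, Module.Basis (ι i) k (S i)) :
    LinearIndependent k fun i => chr (A := A) (b i) := by
  let D : n → {D : Submodule k A // IsSimpleSubcoalg k D} :=
    fun i => ⟨coeffSpace k A (S i), isSimpleSubcoalg_coeffSpace (hS i)⟩
  have hD : Function.Injective D := fun i j h => by
    by_contra hij
    obtain ⟨e, he⟩ := exists_comodEquiv_of_coeffSpace_eq (hS i) (hS j) (le_of_eq (congrArg Subtype.val h))
    exact hne i j hij e he
  refine iSupIndep.linearIndependent _ ((iSupIndep_simpleSubcoalg (k := k) (A := A)).comp hD)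
    (fun i => chr_mem_coeffSpace (b i)) fun i h0 => ?_
  haveI := (hS i).1
  haveI : Nonempty (ι i) := (b i).index_nonempty
  have := counit_chr (A := A) (b i)
  rw [h0, map_zero] at this
  exact Nat.cast_ne_zero.2 Fintype.card_ne_zero this.symm

end Groth.Agent.CohDer1.ClassFun
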