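import Groth.Agent.CohDer1.ClassFun.Basic
import Groth.Agent.HopfLib.SpPoints

/-!
# Class functions are the symmetric elements; coordinate comodules
-/

set_option autoImplicit false
set_option maxHeartbeats 400000

open CategoryTheory MonoidalCategory CartesianMonoidalCategory MonObj AlgebraicGeometry
open TensorProduct HopfRep
open Groth.Agent.HopfLib CoactBr

universe u

noncomputable section

namespace Groth.Agent.CohDer1.ClassFun

variable {k A : Type u} [Field k] [CommRing A] [HopfAlgebra k A]

/-- Pullback of a function along a point. -/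
def ev {T : Over (Spec (CommRingCat.of k))} (g : T ⟶ sp k A) (f : A) : Γ(T.left, ⊤) :=
  g.left.appTop ((Scheme.ΓSpecIso (CommRingCat.of A)).inv f)

theorem ev_comp {T T' : Over (Spec (CommRingCat.of k))} (z : T' ⟶ T) (g : T ⟶ sp k A) (f : A) :
    ev (z ≫ g) f = z.left.appTop (ev g f) := rfl

theorem ev_pt {L : Type u} [CommRing L] [Algebra k L] (φ : A →ₐ[k] L) (f : A) :
    ev (pt φ) f = (Scheme.ΓSpecIso (CommRingCat.of L)).inv (φ f) := by
  have h := Scheme.ΓSpecIso_inv_naturality (CommRingCat.ofHom φ.toRingHom)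
  exact congr($h f).symm

theorem comm_comul (f : A) :
    ((Algebra.TensorProduct.lift (Algebra.TensorProduct.includeRight : A →ₐ[k] A ⊗[k] A)
      Algebra.TensorProduct.includeLeft fun _ _ => .all ..).comp (Bialgebra.comulAlgHom k A)) f =
      TensorProduct.comm k A A (CoalgebraStruct.comul (R := k) f) := by
  simp only [AlgHom.comp_apply, Bialgebra.comulAlgHom_apply]
  generalize CoalgebraStruct.comul (R := k) f = t
  induction t using TensorProduct.induction_on with
  | zero => simp
  | add p q hp hq => simp only [map_add, hp, hq]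
  | tmul p q => simp

theorem formMul_eq_of_comm (f : A) (h : TensorProduct.comm k A A (CoalgebraStruct.comul (R := k) f) =
    CoalgebraStruct.comul (R := k) f) : IsSymm (k := k) f := by
  intro u v
  simp only [formMul, LinearMap.comp_apply]
  conv_lhs => rw [← h]
  generalize CoalgebraStruct.comul (R := k) f = t
  induction t using TensorProduct.induction_on with
  | zero => simp
  | add p q hp hq => simp only [map_add, hp, hq]
  | tmul p q => simp [mul_comm]

theorem comm_eq_of_isSymm (f : A) (hf : IsSymm (k := k) f) :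
    TensorProduct.comm k A A (CoalgebraStruct.comul (R := k) f) = CoalgebraStruct.comul (R := k) f := by
  refine eq_of_forall_sliceR_eq fun v => ?_
  have e : sliceR v (TensorProduct.comm k A A (CoalgebraStruct.comul (R := k) f)) = hitL v f := by
    simp only [hitL, LinearMap.comp_apply]
    generalize Coalgebra.comul (R := k) f = t
    induction t using TensorProduct.induction_on with
    | zero => simp
    | add p q hp hq => simp only [map_add, hp, hq]
    | tmul p q => simp
  rw [e]
  exact (sub_eq_zero.1 ((isSymm_iff_comm f).1 hf v)).symm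

theorem isClassFun_iff (f : A) :
    (∀ (T : Over (Spec (CommRingCat.of k))) (x g : T ⟶ sp k A),
      (x * g * x⁻¹).left.appTop ((Scheme.ΓSpecIso (CommRingCat.of A)).inv f) =
        g.left.appTop ((Scheme.ΓSpecIso (CommRingCat.of A)).inv f)) ↔ IsSymm (k := k) f := by
  let x₀ : sp k (A ⊗[k] A) ⟶ sp k A := pt Algebra.TensorProduct.includeLeft
  let y₀ : sp k (A ⊗[k] A) ⟶ sp k A := pt Algebra.TensorProduct.includeRight
  have h1 : ev (x₀ * y₀) f =
      (Scheme.ΓSpecIso (CommRingCat.of (A ⊗[k] A))).inv (CoalgebraStruct.comul (R := k) f) := by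
    rw [show x₀ * y₀ = pt (Bialgebra.comulAlgHom k A) from HopfLib.SpPoints.pt_includeLeft_mul_includeRight, ev_pt]
    rfl
  have h2 : ev (y₀ * x₀) f = (Scheme.ΓSpecIso (CommRingCat.of (A ⊗[k] A))).inv
      (TensorProduct.comm k A A (CoalgebraStruct.comul (R := k) f)) := by
    rw [pt_mul_pt, ev_pt, comm_comul]
  constructor
  · intro h
    refine formMul_eq_of_comm f ?_
    have h3 : ev (x₀ * (y₀ * x₀) * x₀⁻¹) f = ev (y₀ * x₀) f := h _ x₀ (y₀ * x₀)
    rw [show x₀ * (y₀ * x₀) * x₀⁻¹ = x₀ * y₀ by simp [_root_.mul_assoc], h1, h2] at h3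
    exact ((Scheme.ΓSpecIso (CommRingCat.of (A ⊗[k] A))).symm.commRingCatIsoToRingEquiv.injective h3).symm
  · intro hf T x g
    haveI := Misc15.AffinePoints.isIso_Q (R := k) A A
    let z : T ⟶ sp k (A ⊗[k] A) := lift x (g * x⁻¹) ≫ inv (Misc15.AffinePoints.Q (R := k) A A)
    have hz : z ≫ Misc15.AffinePoints.Q (R := k) A A = lift x (g * x⁻¹) := by simp only [z, Category.assoc, IsIso.inv_hom_id, Category.comp_id]
    have hx : z ≫ x₀ = x := by
      have := congrArg (· ≫ fst _ _) hz
      simpa [x₀] using this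
    have hy : z ≫ y₀ = g * x⁻¹ := by
      have := congrArg (· ≫ snd _ _) hz
      simpa [y₀] using this
    show ev (x * g * x⁻¹) f = ev g f
    rw [show x * g * x⁻¹ = z ≫ (x₀ * y₀) by rw [MonObj.comp_mul, hx, hy, _root_.mul_assoc],
      show g = z ≫ (y₀ * x₀) by rw [MonObj.comp_mul, hx, hy, inv_mul_cancel_right],
      ev_comp, ev_comp, h1, h2, comm_eq_of_isSymm f hf]

theorem sum_lid_eq_chr {d : ℕ} (c : Comod k A (Fin d → k)) :
    (∑ i : Fin d, TensorProduct.lid k A (LinearMap.rTensor A (LinearMap.proj i)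
      (c.coact (Pi.single i 1)))) = @chr k _ A _ _ _ (Fin d → k) _ _ c (Fin d) _ (Pi.basisFun k (Fin d)) := by
  letI := c
  refine Finset.sum_congr rfl fun i _ => ?_
  rw [Pi.basisFun_apply, show (Pi.basisFun k (Fin d)).coord i = LinearMap.proj i from
    LinearMap.ext fun x => by simp]
  rfl

theorem exists_coord_chr {E : Type u} [AddCommGroup E] [Module k E] [Comod k A E] {d : ℕ}
    (b : Module.Basis (Fin d) k E) :
    ∃ c : Comod k A (Fin d → k),
      chr (A := A) b = @chr k _ A _ _ _ (Fin d → k) _ _ c (Fin d) _ (Pi.basisFun k (Fin d)) := by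
  let e : E ≃ₗ[k] (Fin d → k) := b.equivFun
  let ρ : (Fin d → k) →ₗ[k] (Fin d → k) ⊗[k] A :=
    e.toLinearMap.rTensor A ∘ₗ Comod.coact (k := k) (A := A) ∘ₗ e.symm.toLinearMap
  have hρ : ∀ g v, sliceR g (ρ v) = e (hit (A := A) g (e.symm v)) := fun g v => by
    simp only [ρ, LinearMap.comp_apply, sliceR_rTensor, hit_apply, LinearEquiv.coe_coe]
  let c := comodOfHit ρ (fun v => by rw [hρ, hit_counit, LinearEquiv.apply_symm_apply])
    (fun g h v => by rw [hρ, hρ, hρ, LinearEquiv.symm_apply_apply, hit_hit])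
  refine ⟨c, Finset.sum_congr rfl fun i _ => ?_⟩
  refine (Module.forall_dual_apply_eq_zero_iff k _).1 (fun u => ?_) |> sub_eq_zero.1
  rw [map_sub, form_cf, sub_eq_zero, @form_cf k _ A _ _ _ (Fin d → k) _ _ c u,
    show @hit k _ A _ _ _ (Fin d → k) _ _ c u (Pi.basisFun k (Fin d) i) = sliceR u (ρ (Pi.basisFun k (Fin d) i))
      from rfl, hρ]
  have e1 : e.symm (Pi.basisFun k (Fin d) i) = b i := by
    simp [e, LinearEquiv.symm_apply_eq, Pi.single_apply, funext_iff, Finsupp.single_apply, eq_comm]
  rw [e1]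
  simp [e]

theorem result_aux [IsAlgClosed k] [CharZero k] (hred : IsLinearlyReductive k A) :
    (∀ f : A,
      (∀ (T : Over (Spec (CommRingCat.of k))) (x g : T ⟶ CoactBr.sp k A),
          (x * g * x⁻¹).left.appTop ((Scheme.ΓSpecIso (CommRingCat.of A)).inv f) =
            g.left.appTop ((Scheme.ΓSpecIso (CommRingCat.of A)).inv f)) ↔
        f ∈ Submodule.span k (Set.range fun p : (Σ d : ℕ, Comod k A (Fin d → k)) =>
          ∑ i : Fin p.1, TensorProduct.lid k A (LinearMap.rTensor A (LinearMap.proj i)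
            (p.2.coact (Pi.single i 1))))) ∧
    (∀ (n : ℕ) (d : Fin n → ℕ) (c : (i : Fin n) → Comod k A (Fin (d i) → k)),
      (∀ i, @IsSimpleComod k A _ _ _ _ (Fin (d i) → k) _ _ (c i)) →
      (∀ i j, i ≠ j → ∀ P : (Fin (d i) → k) ≃ₗ[k] (Fin (d j) → k),
          LinearMap.rTensor A P.toLinearMap ∘ₗ (c i).coact ≠ (c j).coact ∘ₗ P.toLinearMap) →
      LinearIndependent k (fun i : Fin n => ∑ t : Fin (d i), TensorProduct.lid k A (LinearMap.rTensor A (LinearMap.proj t)
            ((c i).coact (Pi.single t 1))))) := by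
  refine ⟨fun f => ?_, fun n d c hs hne => ?_⟩
  · rw [isClassFun_iff]
    constructor
    · intro hf
      have hss : IsSemisimpleComod k A A := isSemisimpleComod_of_isLinearlyReductive hred
      refine mem_span_of_isSymm hss hf _ fun E hE => ?_
      letI := ComodSub.Comod.restr (Comod.regular k A) E hE.1
      haveI := finite_of_isSimpleComod (isSimpleComod_restr hE)
      let b := Module.finBasis k E
      let b' := b.reindex Equiv.ulift.{u, 0}.symm
      obtain ⟨c', hc'⟩ := exists_coord_chr (A := A) b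
      refine ⟨ULift.{u} (Fin (Module.finrank k E)), inferInstance, b', ⟨⟨_, c'⟩, ?_⟩⟩
      show _ = chr (A := A) b'
      refine (sum_lid_eq_chr c').trans ?_
      rw [← hc']
      exact Fintype.sum_equiv Equiv.ulift.symm _ _ fun i => by
        have e : b'.coord (ULift.up i) = b.coord i := LinearMap.ext fun x => by
          simp [b', Finsupp.mapDomain_apply ULift.up_injective]
        show cf (b.coord i) (b i) = cf (b'.coord (ULift.up i)) (b' (ULift.up i))
        rw [e]
        simp [b']
    · intro hf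
      refine formMul_symm_of_mem_span _ ?_ f hf
      rintro _ ⟨⟨d, c⟩, rfl⟩
      letI := c
      have h := isSymm_chr (A := A) (Pi.basisFun k (Fin d))
      rw [← sum_lid_eq_chr c] at h
      exact h
  · simp only [sum_lid_eq_chr]
    exact @linearIndependent_chr k _ A _ _ _ _ (Fin n) (fun i => Fin (d i) → k) _ _ c hs
      (fun i j hij e he => hne i j hij e (Eq.symm he)) (fun i => Fin (d i)) _ fun i => Pi.basisFun k (Fin (d i))

end Groth.Agent.CohDer1.ClassFun
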